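import Cfsg.Agent.H602.DP.Def

/-!
# S4247, row `PSp`, lemma E1 (helper640, statement of helper602)

The centralizer in `Sp_2m(F) / {±1}` of the `p`-elements which centralise `T`: it is the image of the group of the isometries
which are trivial on the fixed space of `T`.
-/

set_option autoImplicit false

namespace Cfsg.Agent.H640.DP

open Module Subgroup Cfsg Matrix Cfsg.Agent.H167.OP Cfsg.Agent.H170.HL Cfsg.Agent.H572.RV Cfsg.Agent.H602.DP

set_option linter.unusedSectionVars false

variable {F : Type*} [Field F] [Fintype F] {m p : ℕ}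

theorem cen_sq {c : symplecticGroup (Fin m) F} (hc : c ∈ center (symplecticGroup (Fin m) F)) : c * c = 1 := by
  apply Subtype.ext
  show (c : Matrix (Fin m ⊕ Fin m) (Fin m ⊕ Fin m) F) * (c : Matrix (Fin m ⊕ Fin m) (Fin m ⊕ Fin m) F) = 1
  rcases Cfsg.Agent.ClassicalGeometry.SympInvolutions.center_eq hc with h | h
  · rw [h, one_mul]
  · rw [h, neg_mul_neg, one_mul]

theorem cen_two [CharP F 2] {c : symplecticGroup (Fin m) F} (hc : c ∈ center (symplecticGroup (Fin m) F)) :
    c = 1 := by
  apply Subtype.ext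
  show (c : Matrix (Fin m ⊕ Fin m) (Fin m ⊕ Fin m) F) = 1
  rcases Cfsg.Agent.ClassicalGeometry.SympInvolutions.center_eq hc with h | h
  · exact h
  · rw [h]
    ext i j
    rw [Matrix.neg_apply, CharTwo.neg_eq]

theorem pow_odd {K : Type*} [Group K] {c : K} (hc : c * c = 1) {n : ℕ} (hn : Odd n) : c ^ n = c := by
  obtain ⟨k, rfl⟩ := hn
  rw [pow_succ, pow_mul, pow_two, hc, one_pow, one_mul]

/-- `c ^ (p ^ j) = c` for central `c` -/
theorem cen_pow (hp : p.Prime) [CharP F p] {c : symplecticGroup (Fin m) F}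
    (hc : c ∈ center (symplecticGroup (Fin m) F)) (j : ℕ) : c ^ p ^ j = c := by
  rcases hp.eq_two_or_odd' with rfl | h
  · rw [cen_two hc, one_pow]
  · exact pow_odd (cen_sq hc) h.pow

theorem cen_eq_one (hp : p.Prime) [CharP F p] {c a : symplecticGroup (Fin m) F}
    (hc : c ∈ center (symplecticGroup (Fin m) F)) {j : ℕ} (ha : a ^ p ^ j = 1) (hca : (c * a) ^ p ^ j = 1) :
    c = 1 := by
  have h1 : Commute c a := (mem_center_iff.mp hc a).symm
  rwa [h1.mul_pow, ha, mul_one, cen_pow hp hc] at hca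

theorem frm_self (v : Fin m ⊕ Fin m → F) : SpRow.frm m F v v = 0 := by
  rw [SpRow.frm_apply, J]
  simp only [dotProduct, mulVec, Fintype.sum_sum_type, fromBlocks_apply₁₁, fromBlocks_apply₁₂,
    fromBlocks_apply₂₁, fromBlocks_apply₂₂, Matrix.zero_apply, zero_mul, Finset.sum_const_zero, zero_add, add_zero,
    Matrix.neg_apply, Matrix.one_apply, neg_mul, ite_mul, one_mul, Finset.sum_neg_distrib, Finset.sum_ite_eq,
    Finset.mem_univ, if_true, mul_neg]
  rw [neg_add_eq_zero]
  exact Finset.sum_congr rfl fun i _ => mul_comm _ _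

/-- the transvections -/
theorem exists_trv (v : Fin m ⊕ Fin m → F) : ∃ A : symplecticGroup (Fin m) F,
    ∀ x, rep (SpRow.inc m F) A x = x + SpRow.frm m F x v • v := by
  have hvv : SpRow.frm m F v v = 0 := frm_self v
  let z : Module.End F (Fin m ⊕ Fin m → F) :=
    { toFun := fun x => x + SpRow.frm m F x v • v
      map_add' := fun a b => by
        rw [map_add, LinearMap.add_apply, add_smul]
        abel
      map_smul' := fun c a => by
        rw [map_smul, LinearMap.smul_apply, smul_eq_mul, mul_smul, RingHom.id_apply, smul_add] }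
  obtain ⟨A, hA⟩ := SpRow.exists_of_iso z (fun a b => by
    show SpRow.frm m F (a + SpRow.frm m F a v • v) (b + SpRow.frm m F b v • v) = SpRow.frm m F a b
    simp only [map_add, LinearMap.add_apply, map_smul, LinearMap.smul_apply, smul_eq_mul, hvv]
    rw [SpRow.frm_sym v b]
    ring)
  exact ⟨A, fun x => by rw [hA]; rfl⟩

/-- the powers of a transvection -/
theorem trv_pow {v : Fin m ⊕ Fin m → F} {A : symplecticGroup (Fin m) F}
    (hA : ∀ x, rep (SpRow.inc m F) A x = x + SpRow.frm m F x v • v) (k : ℕ) (x : Fin m ⊕ Fin m → F) :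
    rep (SpRow.inc m F) (A ^ k) x = x + ((k : F) * SpRow.frm m F x v) • v := by
  induction k with
  | zero => rw [pow_zero, one_ap, Nat.cast_zero, zero_mul, zero_smul, add_zero]
  | succ k ih =>
    rw [pow_succ', mul_ap, ih, hA]
    simp only [map_add, LinearMap.add_apply, map_smul, LinearMap.smul_apply, smul_eq_mul, frm_self]
    rw [mul_zero, add_zero, Nat.cast_succ, add_assoc, ← add_smul]
    ring_nf

theorem trv_pow_p [CharP F p] {v : Fin m ⊕ Fin m → F} {A : symplecticGroup (Fin m) F}
    (hA : ∀ x, rep (SpRow.inc m F) A x = x + SpRow.frm m F x v • v) : A ^ p ^ 1 = 1 := by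
  apply rep_injective SpRow.inc_injective
  apply LinearMap.ext
  intro x
  rw [trv_pow hA, one_ap, pow_one, CharP.cast_eq_zero, zero_mul, zero_smul, add_zero]

theorem exists_frm_ne {v : Fin m ⊕ Fin m → F} (hv : v ≠ 0) : ∃ x, SpRow.frm m F x v ≠ 0 := by
  by_contra h
  push Not at h
  exact hv (SpRow.frm_nondeg v h)

/-- if `g` commutes with a transvection then `g v = ± v` -/
theorem eigen_trv {v : Fin m ⊕ Fin m → F} (hv : v ≠ 0) {A g : symplecticGroup (Fin m) F}
    (hA : ∀ x, rep (SpRow.inc m F) A x = x + SpRow.frm m F x v • v) (hg : g * A = A * g) :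
    rep (SpRow.inc m F) g v = v ∨ rep (SpRow.inc m F) g v = -v := by
  set ρ := rep (SpRow.inc m F) with hρ
  -- `g A g⁻¹`
  have h1 : ∀ x, SpRow.frm m F x v • ρ g v = SpRow.frm m F (ρ g x) v • v := by
    intro x
    have h2 : ρ (g * A) x = ρ (A * g) x := by rw [hg]
    rw [mul_ap, mul_ap, hA, hA, map_add, map_smul] at h2
    exact add_left_cancel h2
  obtain ⟨x, hx⟩ := exists_frm_ne hv
  set c : F := (SpRow.frm m F x v)⁻¹ * SpRow.frm m F (ρ g x) v with hc
  have h3 : ρ g v = c • v := by
    have h2 := congrArg (fun w => (SpRow.frm m F x v)⁻¹ • w) (h1 x)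
    simp only [smul_smul] at h2
    rw [inv_mul_cancel₀ hx, one_smul] at h2
    exact h2
  have h4 : c * c = 1 := by
    have h5 : SpRow.frm m F (ρ g x) (ρ g v) = SpRow.frm m F x v := SpRow.frm_iso g x v
    rw [h3, map_smul, smul_eq_mul] at h5
    have h6 : SpRow.frm m F (ρ g x) v = c * SpRow.frm m F x v := by
      rw [hc]
      field_simp
    rw [h6, ← mul_assoc] at h5
    exact mul_right_cancel₀ hx (h5.trans (one_mul _).symm)
  rcases mul_self_eq_one_iff.mp h4 with h5 | h5
  · left; rw [h3, h5, one_smul]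
  · right; rw [h3, h5, neg_smul, one_smul]

/-- `± 1` on every vector of a subspace -/
theorem all_or (W : Submodule F (Fin m ⊕ Fin m → F)) (g : Module.End F (Fin m ⊕ Fin m → F))
    (h : ∀ v ∈ W, g v = v ∨ g v = -v) : (∀ v ∈ W, g v = v) ∨ ∀ v ∈ W, g v = -v := by
  by_cases h1 : ∀ v ∈ W, g v = v
  · exact Or.inl h1
  · right
    push Not at h1
    obtain ⟨v₀, hv₀, hne⟩ := h1
    have h2 : g v₀ = -v₀ := (h v₀ hv₀).resolve_left hne
    intro v hv
    rcases h v hv with h3 | h3
    · rcases h (v + v₀) (W.add_mem hv hv₀) with h4 | h4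
      · rw [map_add, h3, h2] at h4
        have h5 : -v₀ = v₀ := add_left_cancel h4
        exact absurd (h2.trans h5) hne
      · rw [map_add, h3, h2, neg_add] at h4
        have h5 : v = -v := add_right_cancel h4
        rw [h3]
        exact h5
    · exact h3

theorem exists_neg : ∃ n : symplecticGroup (Fin m) F, n ∈ center (symplecticGroup (Fin m) F) ∧
    ∀ x, rep (SpRow.inc m F) n x = -x := by
  obtain ⟨n, hn⟩ := SpRow.exists_of_iso (F := F) (m := m) (-1) (fun u v => by
    simp only [LinearMap.neg_apply, Module.End.one_apply, map_neg, LinearMap.neg_apply, neg_neg])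
  have h1 : ∀ x, rep (SpRow.inc m F) n x = -x := fun x => by rw [hn]; rfl
  refine ⟨n, mem_center_iff.mpr fun g => ?_, h1⟩
  apply rep_injective SpRow.inc_injective
  apply LinearMap.ext
  intro x
  rw [mul_ap, mul_ap, h1, h1, map_neg]

/-- **Task E1** of helper602 -/
theorem cent_YS {S : Type*} [Group S] (φ : symplecticGroup (Fin m) F →* S) (hφ : Function.Surjective φ)
    (hker : ∀ k, φ k = 1 ↔ k ∈ center (symplecticGroup (Fin m) F)) (_hm : 2 ≤ m) (hp : p.Prime) [CharP F p]
    {T : Subgroup (symplecticGroup (Fin m) F)} (hTo : Odd (Nat.card T))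
    (hpel : ∀ u : symplecticGroup (Fin m) F, (∃ j : ℕ, u ^ p ^ j = 1) → (∀ z ∈ T, z * u = u * z) →
      ∀ x ∈ CV (rep (SpRow.inc m F)) T, rep (SpRow.inc m F) u x = x)
    (hnd : ND (SpRow.frm m F) (CV (rep (SpRow.inc m F)) T))
    (h0 : Orth (SpRow.frm m F) (CV (rep (SpRow.inc m F)) T) ≠ ⊥) :
    centralizer (YS φ p T : Set S) = (GV (CV (rep (SpRow.inc m F)) T)).map φ ∧ ∃ y ∈ YS φ p T, y ≠ 1 := by
  have hfin : Finite (symplecticGroup (Fin m) F) := inferInstance
  set ρ := rep (SpRow.inc m F) with hρ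
  set f := SpRow.frm m F with hf
  have hIso := isoG_sp (F := F) m
  have hinj : Function.Injective ρ := hIso.inj
  have hcomm : ∀ a b : symplecticGroup (Fin m) F, φ a * φ b = φ b * φ a →
      ∃ c ∈ center (symplecticGroup (Fin m) F), a * b = c * (b * a) := by
    intro a b h
    refine ⟨a * b * (b * a)⁻¹, ?_, by group⟩
    rw [← hker, map_mul, map_inv, map_mul, map_mul, h, mul_inv_cancel]
  -- the transvections of the fixed space
  have htrv : ∀ v ∈ Orth f (CV ρ T), ∃ A : symplecticGroup (Fin m) F,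
      (∀ x, ρ A x = x + f x v • v) ∧ A ^ p ^ 1 = 1 ∧ φ A ∈ YS φ p T := by
    intro v hv
    obtain ⟨A, hA⟩ := exists_trv (F := F) v
    refine ⟨A, hA, trv_pow_p hA, subset_closure ⟨⟨1, by rw [← map_pow, trv_pow_p hA, map_one]⟩, ?_⟩⟩
    intro z hz
    rw [← map_mul, ← map_mul]
    congr 1
    have h1 : ρ z v = v := (mem_Orth_CV hIso).mp hv z hz
    apply hinj
    apply LinearMap.ext
    intro x
    have h2 : f (ρ z x) v = f x v := by
      have := SpRow.frm_iso z x v
      rw [← hρ, ← hf] at this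
      rwa [h1] at this
    rw [mul_ap, mul_ap, hA, hA, map_add, map_smul, h1, h2]
  refine ⟨le_antisymm ?_ ?_, ?_⟩
  · -- `≤`
    intro s hs
    obtain ⟨g, rfl⟩ := hφ s
    rw [mem_centralizer_iff] at hs
    have h1 : ∀ v ∈ Orth f (CV ρ T), ρ g v = v ∨ ρ g v = -v := by
      intro v hv
      rcases eq_or_ne v 0 with rfl | hv0
      · left; rw [map_zero]
      obtain ⟨A, hA, hAp, hAY⟩ := htrv v hv
      obtain ⟨c, hc, hcA⟩ := hcomm g A (hs _ hAY).symm
      have hc1 : c = 1 := by
        refine cen_eq_one hp hc hAp (j := 1) ?_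
        have h2 : c * A = g * A * g⁻¹ := by rw [hcA]; group
        rw [h2, conj_pow, hAp]
        group
      rw [hc1, one_mul] at hcA
      exact eigen_trv hv0 hA hcA
    rcases all_or _ (ρ g) h1 with h2 | h2
    · exact ⟨g, h2, rfl⟩
    · obtain ⟨n, hn, hnx⟩ := exists_neg (F := F) (m := m)
      refine ⟨n * g, fun w hw => ?_, ?_⟩
      · show ρ (n * g) w = w
        rw [mul_ap, hnx, h2 w hw, neg_neg]
      · rw [map_mul, (hker n).mpr hn, one_mul]
  · -- `≥`
    rintro _ ⟨g, hg, rfl⟩
    have hgV : ∀ w ∈ Orth f (CV ρ T), ρ g w = w := hg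
    -- `g` preserves `V₁`
    have hg1 : ∀ x ∈ CV ρ T, ρ g x ∈ CV ρ T := by
      intro x hx
      obtain ⟨a, ha, b, hb, hab⟩ := decomp hnd (ρ g x)
      have hb0 : b = 0 := by
        apply hIso.nd
        intro y
        obtain ⟨a', ha', b', hb', rfl⟩ := decomp hnd y
        rw [map_add, LinearMap.add_apply, hb a' ha', zero_add]
        have h1 : f b' (ρ g x) = 0 := by
          have h2 := SpRow.frm_iso g b' x
          rw [← hρ, ← hf, hgV b' hb'] at h2
          rw [h2]
          exact hIso.refl _ _ (hb' x hx)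
        rw [hab, map_add, hIso.refl _ _ (hb' a ha), zero_add] at h1
        exact h1
      rw [hab, hb0, add_zero]
      exact ha
    rw [mem_centralizer_iff]
    have h3 : YS φ p T ≤ centralizer {φ g} := by
      rw [YS, closure_le]
      rintro y ⟨⟨j, hj⟩, hy⟩
      obtain ⟨k, rfl⟩ := hφ y
      obtain ⟨c, hc⟩ : ∃ c, c = k ^ p ^ j := ⟨_, rfl⟩
      have hcc : c ∈ center (symplecticGroup (Fin m) F) := by
        rw [← hker, hc, map_pow, hj]
      obtain ⟨u, hu⟩ : ∃ u, u = c * k := ⟨_, rfl⟩
      have hφu : φ u = φ k := by rw [hu, map_mul, (hker c).mpr hcc, one_mul]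
      have hup : u ^ p ^ j = 1 := by
        have h1 : Commute c k := (mem_center_iff.mp hcc k).symm
        rw [hu, h1.mul_pow, cen_pow hp hcc, ← hc, cen_sq hcc]
      have huT : ∀ z ∈ T, z * u = u * z := by
        intro z hz
        have h1 := hy z hz
        rw [← hφu] at h1
        obtain ⟨e, he, hez⟩ := hcomm z u h1
        have hzo : z ^ Nat.card T = 1 := by
          have h4 : (⟨z, hz⟩ : T) ^ Nat.card T = 1 := pow_card_eq_one'
          exact congrArg Subtype.val h4
        have h2 : e * z = u⁻¹ * z * u := by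
          have h4 : e * (u * z) = u * (e * z) := by
            rw [← mul_assoc, ← mul_assoc, mem_center_iff.mp he u]
          rw [mul_assoc, hez, h4, inv_mul_cancel_left]
        have h3 : (e * z) ^ Nat.card T = 1 := by
          have h5 : u⁻¹ * z * u = u⁻¹ * z * u⁻¹⁻¹ := by rw [inv_inv]
          rw [h2, h5, conj_pow, hzo]
          group
        have h6 : Commute e z := (mem_center_iff.mp he z).symm
        rw [h6.mul_pow, hzo, mul_one, pow_odd (cen_sq he) hTo] at h3
        rw [hez, h3, one_mul]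
      have hu1 := hpel u ⟨j, hup⟩ huT
      have hu2 : ∀ w ∈ Orth f (CV ρ T), ρ u w ∈ Orth f (CV ρ T) := by
        intro w hw x hx
        have h2 := SpRow.frm_iso u x w
        rw [← hρ, ← hf, hu1 x hx] at h2
        rw [h2]
        exact hw x hx
      have hgu : g * u = u * g := by
        apply hinj
        apply LinearMap.ext
        intro v
        obtain ⟨a, ha, b, hb, rfl⟩ := decomp hnd v
        rw [mul_ap, mul_ap, map_add, map_add, map_add, map_add, hu1 a ha, hu1 _ (hg1 a ha), hgV _ (hu2 b hb),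
          hgV b hb]
      rw [SetLike.mem_coe, mem_centralizer_singleton_iff, ← hφu, ← map_mul, ← map_mul, hgu]
    intro y hy
    exact (mem_centralizer_singleton_iff.mp (h3 hy))
  · -- a nontrivial element
    obtain ⟨v, hv, hv0⟩ := (Submodule.ne_bot_iff _).mp h0
    obtain ⟨A, hA, hAp, hAY⟩ := htrv v hv
    refine ⟨φ A, hAY, fun h => ?_⟩
    have hAc := (hker A).mp h
    have hA1 : A = 1 := by
      rw [cen_pow hp hAc] at hAp
      exact hAp
    obtain ⟨x, hx⟩ := exists_frm_ne hv0
    have h1 := hA x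
    rw [hA1, one_ap, left_eq_add, smul_eq_zero] at h1
    exact h1.elim hx hv0

end Cfsg.Agent.H640.DP
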